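import Cfsg.Agent.Transfer.MetaOmega.Frame
import Cfsg.Agent.S0112
import Cfsg.Agent.Screen.MaxClass
import Cfsg.Agent.Fusion.MaxClassBase
import Mathlib.GroupTheory.SemidirectProduct

/-! Automorphisms of order `p` of metacyclic `p`-groups and the elements of order `p`. -/

set_option autoImplicit false

namespace Cfsg.Agent.Transfer.MetaOmega

open Cfsg Subgroup

variable {L : Type*} [Group L] [Finite L] {p : ℕ} [hp : Fact p.Prime]

theorem Frame.u_comm (F : Frame p L) (hL : IsPGroup p L) {n : L} (hn : n ∈ F.N) (hn2 : n ^ p ^ 2 = 1) :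
    Commute F.u n := by
  haveI := F.hN; haveI := F.hcyc
  obtain ⟨l, hl, hc⟩ := exists_conj_exp F.N hL hn F.w
  have hi : ∀ i : ℕ, F.w ^ i * n * (F.w ^ i)⁻¹ = n ^ (l ^ i) := by
    intro i
    induction i with
    | zero => simp
    | succ i ih =>
      calc F.w ^ (i + 1) * n * (F.w ^ (i + 1))⁻¹ = F.w * (F.w ^ i * n * (F.w ^ i)⁻¹) * F.w⁻¹ := by
            rw [pow_succ']; group
        _ = F.w * n ^ (l ^ i) * F.w⁻¹ := by rw [ih]
        _ = _ := by rw [← conj_zpow, hc, ← zpow_mul, pow_succ']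
  obtain ⟨t, ht⟩ := dvd_sub_pow_of_dvd_sub (R := ℤ) (p := p) (a := l) (b := 1) hl 1
  norm_num at ht
  have := hi p
  rw [F.hw, show l ^ p = 1 + ((p ^ 2 : ℕ) : ℤ) * t by push_cast; linarith, zpow_add, zpow_one, zpow_mul,
    zpow_natCast, hn2, one_zpow, mul_one] at this
  exact mul_inv_eq_iff_eq_mul.mp this

/-- Elements of order dividing `p ^ 2` are `n * w ^ j` with `n ∈ N` of order dividing `p ^ 2`. -/
theorem Frame.decomp (F : Frame p L) (hp2 : p ≠ 2) (hL : IsPGroup p L) {x : L} (hx : x ^ p ^ 2 = 1) :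
    ∃ n ∈ F.N, ∃ j : ℤ, n ^ p ^ 2 = 1 ∧ x = n * F.w ^ j := by
  haveI := F.hN; haveI := F.hcyc
  obtain ⟨n, hn, j, hj⟩ := F.form x hx
  have hxe : x = n * F.w ^ j := by rw [← hj, inv_mul_cancel_right]
  refine ⟨n, hn, j, ?_, hxe⟩
  obtain ⟨s, hs, hpe⟩ := exists_mul_pow F.N hp2 hL hn (F.w ^ j)
  have hwj : (F.w ^ j) ^ p = F.u ^ j := by
    rw [← zpow_natCast, ← zpow_mul, mul_comm, zpow_mul, zpow_natCast, F.hw]
  obtain ⟨s', hs', hpe'⟩ := exists_mul_pow F.N hp2 hL (F.N.zpow_mem hn s) (F.u ^ j)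
  have h2 : ((n ^ s) ^ s') ^ p ^ 0 = 1 := by
    rw [pow_zero, pow_one]
    have : (x ^ p) ^ p = (n ^ s) ^ s' := by
      rw [hxe, hpe, hwj, hpe', F.hA.2 _ (F.A.zpow_mem F.hu j), mul_one]
    rw [← this, ← pow_mul, ← sq, hx]
  exact pow_eq_one_of_zpow hL hs (pow_eq_one_of_zpow hL hs' h2)

/-- The `p`-th power of `n * w ^ j`. -/
theorem Frame.pow_decomp (F : Frame p L) (hp2 : p ≠ 2) (hL : IsPGroup p L) {n : L} (hn : n ∈ F.N)
    (hn2 : n ^ p ^ 2 = 1) (j : ℤ) : (n * F.w ^ j) ^ p = n ^ p * F.u ^ j := by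
  haveI := F.hN; haveI := F.hcyc
  rw [exists_mul_pow' F.N hp2 hL hn _ hn2, ← zpow_natCast (F.w ^ j), ← zpow_mul, mul_comm, zpow_mul,
    zpow_natCast F.w, F.hw]

theorem Frame.pow_mul' (F : Frame p L) (hp2 : p ≠ 2) (hL : IsPGroup p L) {x y : L} (hx : x ^ p ^ 2 = 1)
    (hy : y ^ p ^ 2 = 1) : (x * y) ^ p = x ^ p * y ^ p := by
  haveI := F.hN; haveI := F.hcyc
  obtain ⟨n, hn, i, hn2, rfl⟩ := F.decomp hp2 hL hx
  obtain ⟨m, hm, j, hm2, rfl⟩ := F.decomp hp2 hL hy
  obtain ⟨l, ⟨t, ht⟩, hl⟩ := exists_conj_exp F.N hL hm (F.w ^ i)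
  have he : n * F.w ^ i * (m * F.w ^ j) = (n * m ^ l) * F.w ^ (i + j) := by
    rw [← hl, zpow_add]; group
  have hcomm : Commute n (m ^ l) := by
    haveI : IsMulCommutative F.N := IsCyclic.isMulCommutative
    exact congrArg Subtype.val (mul_comm' (⟨n, hn⟩ : F.N) ⟨_, F.N.zpow_mem hm l⟩)
  have hml : (m ^ l) ^ p = m ^ p := by
    rw [← zpow_natCast, ← zpow_mul, show l * (p : ℤ) = (p : ℤ) + ((p ^ 2 : ℕ) : ℤ) * t by
      push_cast; rw [show l = 1 + p * t by linarith]; ring, zpow_add, zpow_mul, zpow_natCast, zpow_natCast,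
      hm2, one_zpow, mul_one]
  have h2 : (n * m ^ l) ^ p ^ 2 = 1 := by
    rw [hcomm.mul_pow, hn2, one_mul, sq, pow_mul, hml, ← pow_mul, ← sq, hm2]
  rw [he, F.pow_decomp hp2 hL (F.N.mul_mem hn (F.N.zpow_mem hm l)) h2, F.pow_decomp hp2 hL hn hn2,
    F.pow_decomp hp2 hL hm hm2, hcomm.mul_pow, hml, zpow_add]
  have hc : Commute (F.u ^ i) (m ^ p) :=
    ((F.u_comm hL (F.N.pow_mem hm p) (by rw [← pow_mul, mul_comm, pow_mul, hm2, one_pow])).zpow_left i)
  rw [mul_assoc, mul_assoc, ← mul_assoc (m ^ p), ← hc.eq, mul_assoc]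

/-- An element of `A` is a central element times a power of `u`. -/
theorem Frame.decompA (F : Frame p L) (hp2 : p ≠ 2) (hL : IsPGroup p L) {v : L} (hv : v ∈ F.A) :
    ∃ n ∈ Subgroup.center L, ∃ j : ℤ, v = n * F.u ^ j := by
  haveI := F.hN; haveI := F.hcyc
  have hvp := F.hA.2 v hv
  obtain ⟨n, hn, j, hn2, rfl⟩ := F.decomp hp2 hL (x := v) (by rw [sq, pow_mul, hvp, one_pow])
  rw [F.pow_decomp hp2 hL hn hn2] at hvp
  have huj : F.u ^ j ∈ F.N := by
    rw [show F.u ^ j = (n ^ p)⁻¹ by rw [eq_inv_iff_mul_eq_one, ← (F.u_comm hL (F.N.pow_mem hn p) (by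
      rw [← pow_mul, mul_comm, pow_mul, hn2, one_pow])).zpow_left j |>.symm.eq]; exact hvp]
    exact F.N.inv_mem (F.N.pow_mem hn p)
  have hpj : (p : ℤ) ∣ j := by
    by_contra hnd
    obtain ⟨a, b, hab⟩ := (Nat.prime_iff_prime_int.mp hp.out).coprime_iff_not_dvd.mpr hnd
    apply F.huN
    have : F.u = (F.u ^ j) ^ b := by
      calc F.u = F.u ^ ((p : ℤ) * a + j * b) := by
            rw [show (p : ℤ) * a + j * b = 1 by linarith, zpow_one]
        _ = _ := by rw [zpow_add, zpow_mul, zpow_natCast, F.hA.2 _ F.hu, one_zpow, one_mul, zpow_mul]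
    rw [this]; exact F.N.zpow_mem huj b
  obtain ⟨k, rfl⟩ := hpj
  refine ⟨n, mem_center_of_cyclic F.N hL hn ?_, k, by rw [zpow_mul, zpow_natCast, F.hw]⟩
  rwa [show F.u ^ ((p : ℤ) * k) = 1 by rw [zpow_mul, zpow_natCast, F.hA.2 _ F.hu, one_zpow], mul_one] at hvp

theorem Frame.A_comm (F : Frame p L) (hp2 : p ≠ 2) (hL : IsPGroup p L) {v k : L} (hv : v ∈ F.A)
    (hk : k ^ p ^ 2 = 1) : Commute v k := by
  obtain ⟨c, hc, i, rfl⟩ := F.decompA hp2 hL hv
  obtain ⟨n, hn, j, hn2, rfl⟩ := F.decomp hp2 hL hk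
  refine Commute.mul_left (Subgroup.mem_center_iff.mp hc _).symm ?_
  refine Commute.zpow_left (Commute.mul_right (F.u_comm hL hn hn2) (Commute.zpow_right ?_ j)) i
  rw [← F.hw]
  exact Commute.pow_self F.w p

variable (a : MulAut L)

theorem card_semidirect (ha : orderOf a = p) {m : ℕ} (hm : Nat.card L = p ^ m) :
    Nat.card (SemidirectProduct L ↥(Subgroup.zpowers a) (Subgroup.zpowers a).subtype) = p ^ (m + 1) := by
  rw [SemidirectProduct.card, hm, Nat.card_zpowers, ha, pow_succ]

/-- Images in the semidirect product of invariant normal subgroups are normal. -/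
theorem normal_map_inl (W : Subgroup L) [W.Normal] (hW : ∀ x ∈ W, a x ∈ W) :
    (W.map (SemidirectProduct.inl : L →*
      SemidirectProduct L ↥(Subgroup.zpowers a) (Subgroup.zpowers a).subtype)).Normal := by
  have hW' : ∀ i : ℤ, ∀ x ∈ W, (a ^ i) x ∈ W := by
    intro i
    obtain ⟨k, hk⟩ : ∃ k : ℕ, a ^ k = a ^ i := by
      haveI : Finite (MulAut L) := Finite.of_injective (fun e : MulAut L => (e : L → L)) DFunLike.coe_injective
      refine ⟨(i % (orderOf a : ℤ)).toNat, ?_⟩
      rw [← zpow_natCast, Int.toNat_of_nonneg (Int.emod_nonneg _ (by exact_mod_cast (orderOf_pos a).ne')),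
        zpow_mod_orderOf]
    rw [← hk]
    clear hk
    induction k with
    | zero => intro x hx; simpa using hx
    | succ k ih => intro x hx; rw [pow_succ', MulAut.mul_apply]; exact hW _ (ih x hx)
  constructor
  rintro _ ⟨x, hx, rfl⟩ g
  obtain ⟨i, hi⟩ := g.right.2
  refine ⟨g.left * ((a ^ i) x) * g.left⁻¹, (inferInstance : W.Normal).conj_mem _ (hW' i x hx) _, ?_⟩
  have hd : g = SemidirectProduct.inl g.left * SemidirectProduct.inr g.right :=
    (SemidirectProduct.inl_left_mul_inr_right g).symm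
  have hi' : a ^ i = (g.right : MulAut L) := hi
  rw [hi', map_mul, map_mul, map_inv]
  have := SemidirectProduct.inl_aut (φ := (Subgroup.zpowers a).subtype) g.right x
  rw [Subgroup.subtype_apply] at this
  rw [this]
  conv_rhs => rw [hd]
  rw [map_inv]
  group

/-- If `a` moves an element of order `p`, then `p = 3` and the semidirect product has maximal class. -/
theorem forward (hp2 : p ≠ 2) (hL : IsPGroup p L) (hmc : IsMetacyclic L)
    (hnc : ∀ C : Subgroup L, IsCyclic C → C.index ≠ p) (ha : orderOf a = p) {m : ℕ} (hm : Nat.card L = p ^ m)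
    {x : L} (hx : orderOf x = p) (hax : a x ≠ x) :
    p = 3 ∧ Group.nilpotencyClass
      (SemidirectProduct L ↥(Subgroup.zpowers a) (Subgroup.zpowers a).subtype) = m := by
  haveI : Nontrivial L := ⟨⟨_, _, hax⟩⟩
  obtain ⟨F⟩ := exists_frame hp2 hL hmc hnc
  haveI := F.hAn
  have haA : ∀ v ∈ F.A, a v ∈ F.A := fun v hv => F.hAall _ (by rw [← map_pow, F.hA.2 v hv, map_one])
  set G := SemidirectProduct L ↥(Subgroup.zpowers a) (Subgroup.zpowers a).subtype with hG
  have hGcard : Nat.card G = p ^ (m + 1) := card_semidirect a ha hm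
  haveI : Finite G := Nat.finite_of_card_ne_zero (by rw [hGcard]; exact pow_ne_zero _ hp.out.pos.ne')
  have hGp : IsPGroup p G := IsPGroup.of_card hGcard
  set i : L →* G := SemidirectProduct.inl
  have hconj : ∀ y : L, i (a y) = SemidirectProduct.inr ⟨a, Subgroup.mem_zpowers a⟩ * i y *
      (SemidirectProduct.inr ⟨a, Subgroup.mem_zpowers a⟩)⁻¹ := fun y => by
    have := SemidirectProduct.inl_aut (φ := (Subgroup.zpowers a).subtype) ⟨a, Subgroup.mem_zpowers a⟩ y
    rw [map_inv] at this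
    exact this
  -- a fixed central element `z₁` and `a v ∈ v * ⟨z₁⟩` on `A`
  haveI hn : (F.A.map i).Normal := normal_map_inl a F.A haA
  obtain ⟨_, ⟨z₁, hz₁A, rfl⟩, hz₁ne, hz₁c⟩ := (haveI := hGp.isNilpotent; OddLocal.exists_ne_one_mem_center_of_normal
    (F.A.map i) (fun h => by
      have := congrArg (fun H : Subgroup G => Nat.card H) h
      simp only [Subgroup.card_bot] at this
      exact (Nat.one_lt_pow two_ne_zero hp.out.one_lt).ne' (by
        rw [Subgroup.card_map_of_injective SemidirectProduct.inl_injective] at this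
        rwa [F.hAcard] at this))) 
  have hz₁fix : a z₁ = z₁ := SemidirectProduct.inl_injective (φ := (Subgroup.zpowers a).subtype) (by
    rw [hconj, Subgroup.mem_center_iff.mp hz₁c, mul_inv_cancel_right])
  have hz₁o : orderOf z₁ = p := orderOf_eq_prime (F.hA.2 _ hz₁A) (fun h => hz₁ne (by rw [h, map_one]))
  set Z := Subgroup.zpowers (i z₁) with hZdef
  haveI hZn : Z.Normal := ⟨fun y hy g => by
    have := Subgroup.zpowers_le.mpr hz₁c hy
    rw [Subgroup.mem_center_iff] at this
    rwa [this g, mul_inv_cancel_right]⟩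
  have hδ : ∀ v ∈ F.A, ∃ k : ℤ, a v = v * z₁ ^ k := by
    intro v hv
    haveI hn2 : ((F.A.map i).map (QuotientGroup.mk' Z)).Normal := hn.map _ (QuotientGroup.mk'_surjective Z)
    have hcard : Nat.card ((F.A.map i).map (QuotientGroup.mk' Z)) = p := by
      have hle : Z ≤ F.A.map i := Subgroup.zpowers_le.mpr ⟨z₁, hz₁A, rfl⟩
      have h1 := Subgroup.card_mul_index (((QuotientGroup.mk' Z).comp (F.A.map i).subtype).ker)
      rw [Subgroup.index_ker, MonoidHom.range_comp, Subgroup.range_subtype,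
        Subgroup.card_map_of_injective SemidirectProduct.inl_injective, F.hAcard, ← MonoidHom.comap_ker,
        QuotientGroup.ker_mk'] at h1
      rw [show Subgroup.comap (F.A.map i).subtype Z = Z.subgroupOf (F.A.map i) from rfl,
        Nat.card_congr (Subgroup.subgroupOfEquivOfLe hle).toEquiv,
        show Nat.card Z = p by
          rw [show Nat.card Z = orderOf (i z₁) from Nat.card_zpowers _,
            orderOf_injective i SemidirectProduct.inl_injective, hz₁o], sq] at h1
      exact Nat.eq_of_mul_eq_mul_left hp.out.pos h1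
    have hc := mem_center_of_mem_card (hGp.to_quotient Z) _ hcard
      (z := QuotientGroup.mk' Z (i v)) ⟨_, ⟨v, hv, rfl⟩, rfl⟩
    rw [Subgroup.mem_center_iff] at hc
    have hq : QuotientGroup.mk' Z (i (a v)) = QuotientGroup.mk' Z (i v) := by
      rw [hconj, map_mul, map_mul, map_inv, hc, mul_inv_cancel_right]
    obtain ⟨k, hk⟩ : (i v)⁻¹ * i (a v) ∈ Z := QuotientGroup.eq.mp hq.symm
    refine ⟨k, SemidirectProduct.inl_injective (φ := (Subgroup.zpowers a).subtype) ?_⟩
    show i (a v) = i (v * z₁ ^ k)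
    rw [map_mul, map_zpow, show (i z₁) ^ k = _ from hk, mul_inv_cancel_left]
  have hxA : x ∈ F.A := F.hAall x (by rw [← hx, pow_orderOf_eq_one])
  have hz₁cen : z₁ ∈ Subgroup.center L := Subgroup.mem_center_iff.mpr fun g =>
    SemidirectProduct.inl_injective (φ := (Subgroup.zpowers a).subtype) (by
      rw [map_mul, map_mul]; exact Subgroup.mem_center_iff.mp hz₁c (i g))
  obtain ⟨k, hk⟩ := hδ x hxA
  set z := z₁ ^ k with hzdef
  have hz1 : z ≠ 1 := fun h => hax (by rw [hk, h, mul_one])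
  have hzA : z ∈ F.A := F.A.zpow_mem hz₁A k
  have hzfix : a z = z := by rw [hzdef, map_zpow, hz₁fix]
  -- a root of `x`
  obtain ⟨w, hw⟩ : ∃ w : L, w ^ p = x := by
    obtain ⟨n, hn', j, hn2, hxe⟩ := F.decomp hp2 hL (x := x) (by rw [sq, pow_mul, F.hA.2 x hxA, one_pow])
    have hxp := F.hA.2 x hxA
    rw [hxe, F.pow_decomp hp2 hL hn' hn2] at hxp
    have huj : F.u ^ j ∈ F.N := by
      rw [eq_inv_of_mul_eq_one_right hxp]
      exact F.N.inv_mem (F.N.pow_mem hn' p)
    have hpj : (p : ℤ) ∣ j := by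
      by_contra hnd
      obtain ⟨q₁, q₂, hab⟩ := (Nat.prime_iff_prime_int.mp hp.out).coprime_iff_not_dvd.mpr hnd
      apply F.huN
      have : F.u = (F.u ^ j) ^ q₂ := by
        calc F.u = F.u ^ ((p : ℤ) * q₁ + j * q₂) := by
              rw [show (p : ℤ) * q₁ + j * q₂ = 1 by linarith, zpow_one]
          _ = _ := by rw [zpow_add, zpow_mul, zpow_natCast, F.hA.2 _ F.hu, one_zpow, one_mul, zpow_mul]
      rw [this]; exact F.N.zpow_mem huj q₂
    obtain ⟨j', rfl⟩ := hpj
    rw [show F.u ^ ((p : ℤ) * j') = 1 by rw [zpow_mul, zpow_natCast, F.hA.2 _ F.hu, one_zpow], mul_one] at hxp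
    obtain ⟨m', hm', hmp⟩ := F.root n hn' hxp
    refine ⟨m' * F.w ^ j', ?_⟩
    rw [F.pow_decomp hp2 hL hm' (by rw [sq, pow_mul, hmp, hxp]), hmp, hxe, zpow_mul, zpow_natCast, F.hw]
  have hw2 : w ^ p ^ 2 = 1 := by rw [sq, pow_mul, hw, F.hA.2 x hxA]
  -- the first difference
  set h := w⁻¹ * a w with hhdef
  have haw2 : (a w) ^ p ^ 2 = 1 := by rw [← map_pow, hw2, map_one]
  have hhp : h ^ p = z := by
    rw [hhdef, F.pow_mul' hp2 hL (by rw [inv_pow, hw2, inv_one]) haw2, inv_pow, hw, ← map_pow, hw, hk,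
      inv_mul_cancel_left]
  have hh2 : h ^ p ^ 2 = 1 := by rw [sq, pow_mul, hhp, F.hA.2 z hzA]
  -- the second difference
  set d := h⁻¹ * a h with hddef
  have hdA : d ∈ F.A := F.hAall d (by
    rw [hddef, F.pow_mul' hp2 hL (by rw [inv_pow, hh2, inv_one]) (by rw [← map_pow, hh2, map_one]),
      inv_pow, hhp, ← map_pow, hhp, hzfix, inv_mul_cancel])
  obtain ⟨l, hl⟩ := hδ d hdA
  set e := z₁ ^ l with hedef
  have hefix : a e = e := by rw [hedef, map_zpow, hz₁fix]
  have hecen : e ∈ Subgroup.center L := Subgroup.zpow_mem _ hz₁cen l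
  have hde : Commute d e := Subgroup.mem_center_iff.mp hecen d
  have hdh : Commute d h := F.A_comm hp2 hL hdA hh2
  have hah : a h = h * d := by rw [hddef, mul_inv_cancel_left]
  have haw : a w = w * h := by rw [hhdef, mul_inv_cancel_left]
  have hiter : ∀ n : ℕ, (a ^ n) w = w * h ^ n * d ^ n.choose 2 * e ^ n.choose 3 := by
    intro n
    induction n with
    | zero => simp
    | succ n ih =>
      rw [pow_succ', MulAut.mul_apply, ih, map_mul, map_mul, map_mul, map_pow, map_pow, map_pow, haw, hah, hl,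
        hefix, (hdh.symm).mul_pow, hde.mul_pow,
        Nat.choose_succ_succ' n 1, Nat.choose_succ_succ' n 2, Nat.choose_one_right, pow_add, pow_add,
        pow_one, (Commute.pow_self h n).eq]
      simp only [mul_assoc, pow_add, show (1 : ℕ) + 1 = 2 from rfl, show (2 : ℕ) + 1 = 3 from rfl]
  have hap : a ^ p = 1 := by rw [← ha, pow_orderOf_eq_one]
  have hrel : z * e ^ p.choose 3 = 1 := by
    have := hiter p
    rw [hap, MulAut.one_apply, hhp] at this
    obtain ⟨q, hq⟩ := hp.out.dvd_choose_self (k := 2) (by norm_num) (lt_of_le_of_ne hp.out.two_le (Ne.symm hp2))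
    rw [hq, pow_mul, F.hA.2 d hdA, one_pow, mul_one, mul_assoc] at this
    exact mul_left_cancel (a := w) (by rw [mul_one]; exact this.symm)
  have hp3 : p = 3 := by
    by_contra h3
    obtain ⟨q, hq⟩ := hp.out.dvd_choose_self (k := 3) (by norm_num) (by
      have := hp.out.two_le
      omega)
    rw [hq, pow_mul, F.hA.2 e (F.A.zpow_mem hz₁A l), one_pow, mul_one] at hrel
    exact hz1 hrel
  refine ⟨hp3, ?_⟩
  have he1 : e ≠ 1 := fun h1 => hz1 (by rwa [h1, one_pow, mul_one] at hrel)
  -- fixed points in `A`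
  have hxz : x ∉ Subgroup.zpowers z₁ := by
    rintro ⟨q, rfl⟩
    exact hax (by rw [map_zpow, hz₁fix])
  haveI : (Subgroup.zpowers z₁).Normal := ⟨fun y hy g => by
    have := Subgroup.zpowers_le.mpr hz₁cen hy
    rw [Subgroup.mem_center_iff] at this
    rwa [this g, mul_inv_cancel_right]⟩
  have hfixA : ∀ v ∈ F.A, a v = v → v ∈ Subgroup.zpowers z₁ := by
    intro v hv hfix
    have hsup : Subgroup.zpowers z₁ ⊔ Subgroup.zpowers x = F.A := by
      refine Subgroup.eq_of_le_of_card_ge (sup_le (Subgroup.zpowers_le.mpr hz₁A) (Subgroup.zpowers_le.mpr hxA)) ?_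
      rw [Components.ea_card_sup_zpowers F.hA (Subgroup.zpowers_le.mpr hz₁A) hxA hxz, Nat.card_zpowers,
        hz₁o, F.hAcard, sq]
    rw [← hsup] at hv
    obtain ⟨_, ⟨q₁, rfl⟩, _, ⟨q₂, rfl⟩, rfl⟩ := Subgroup.mem_sup_of_normal_left.mp hv
    refine Subgroup.mul_mem _ (Subgroup.zpow_mem _ (Subgroup.mem_zpowers z₁) q₁) ?_
    by_cases hd2 : (p : ℤ) ∣ q₂
    · obtain ⟨q, rfl⟩ := hd2
      show x ^ ((p : ℤ) * q) ∈ _
      rw [zpow_mul, zpow_natCast, F.hA.2 x hxA, one_zpow]
      exact Subgroup.one_mem _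
    exfalso
    obtain ⟨r₁, r₂, hab⟩ := (Nat.prime_iff_prime_int.mp hp.out).coprime_iff_not_dvd.mpr hd2
    have hfx : a (x ^ q₂) = x ^ q₂ := by
      rw [map_mul, map_zpow a z₁, hz₁fix] at hfix
      exact mul_left_cancel hfix
    apply hax
    have hxe : x = (x ^ q₂) ^ r₂ := by
      calc x = x ^ ((p : ℤ) * r₁ + q₂ * r₂) := by
            rw [show (p : ℤ) * r₁ + q₂ * r₂ = 1 by linarith, zpow_one]
        _ = _ := by rw [zpow_add, zpow_mul, zpow_natCast, F.hA.2 x hxA, one_zpow, one_mul, zpow_mul]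
    calc a x = a ((x ^ q₂) ^ r₂) := congrArg a hxe
      _ = x := by rw [map_zpow, hfx, ← hxe]
  have hzgen : Subgroup.zpowers z = Subgroup.zpowers z₁ := by
    refine Subgroup.eq_of_le_of_card_ge (Subgroup.zpowers_le.mpr ⟨k, rfl⟩) ?_
    rw [Nat.card_zpowers, Nat.card_zpowers, hz₁o, orderOf_eq_prime (F.hA.2 z hzA) hz1]
  have hfixL : ∀ y : L, a y = y → y ∈ Subgroup.zpowers z₁ := by
    intro y hy
    refine hfixA y (F.hAall y ?_) hy
    by_contra hyp
    obtain ⟨j, hj⟩ := hL y
    obtain ⟨t, -, ht⟩ := (Nat.dvd_prime_pow hp.out).mp (orderOf_dvd_of_pow_eq_one hj)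
    have ht2 : 2 ≤ t := by
      by_contra hlt
      exact hyp (orderOf_dvd_iff_pow_eq_one.mp (by rw [ht]; exact (Nat.pow_dvd_pow p (by omega : t ≤ 1)).trans (by rw [pow_one])))
    set y₁ := y ^ p ^ (t - 2) with hy1
    have hy1a : a y₁ = y₁ := by rw [hy1, map_pow, hy]
    have hy12 : y₁ ^ p ^ 2 = 1 := by
      rw [hy1, ← pow_mul, ← pow_add, show t - 2 + 2 = t by omega, ← ht, pow_orderOf_eq_one]
    have hy1p : y₁ ^ p ≠ 1 := by
      rw [hy1, ← pow_mul, ← pow_succ]
      intro h1
      have := orderOf_dvd_of_pow_eq_one h1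
      rw [ht, Nat.pow_dvd_pow_iff_le_right hp.out.one_lt] at this
      omega
    have hy1A : y₁ ^ p ∈ F.A := F.hAall _ (by rw [← pow_mul, ← sq, hy12])
    obtain ⟨q, hq⟩ : y₁ ^ p ∈ Subgroup.zpowers z := hzgen ▸ hfixA _ hy1A (by rw [map_pow, hy1a])
    have hq' : z ^ q = y₁ ^ p := hq
    have hv : y₁⁻¹ * h ^ q ∈ F.A := F.hAall _ (by
      rw [F.pow_mul' hp2 hL (by rw [inv_pow, hy12, inv_one])
        (by rw [← zpow_natCast, ← zpow_mul, mul_comm, zpow_mul, zpow_natCast, hh2, one_zpow]),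
        inv_pow, ← zpow_natCast (h ^ q), ← zpow_mul, mul_comm, zpow_mul, zpow_natCast h, hhp, hq',
        inv_mul_cancel])
    obtain ⟨o, ho⟩ := hδ _ hv
    rw [map_mul, map_inv, hy1a, map_zpow, hah, hdh.symm.mul_zpow, ← mul_assoc] at ho
    have hdq : a (d ^ q) = d ^ q := by rw [mul_left_cancel ho, map_zpow, hz₁fix]
    rw [map_zpow, hl, hde.mul_zpow] at hdq
    have heq : e ^ q = 1 := mul_left_cancel (a := d ^ q) (by rw [mul_one]; exact hdq)
    have hep : e ^ p = 1 := F.hA.2 e (F.A.zpow_mem hz₁A l)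
    have h1 := orderOf_dvd_iff_zpow_eq_one.mpr heq
    rw [orderOf_eq_prime hep he1] at h1
    obtain ⟨q', rfl⟩ := h1
    exact hy1p (by rw [← hq', zpow_mul, zpow_natCast, F.hA.2 z hzA, one_zpow])
  -- a self-centralizing subgroup of order `p ^ 2`
  set b : ↥(Subgroup.zpowers a) := ⟨a, Subgroup.mem_zpowers a⟩
  set t : G := SemidirectProduct.inr b
  have hti : ∀ y : L, i (a y) = t * i y * t⁻¹ := hconj
  set C := Subgroup.centralizer ({t} : Set G) with hCdef
  have hb : ∀ c : ↥(Subgroup.zpowers a), Commute c b := by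
    rintro ⟨c, q, rfl⟩
    exact Subtype.ext ((Commute.zpow_self a q).eq)
  have hmemC : ∀ g : G, g ∈ C ↔ a g.left = g.left := by
    intro g
    have h1 : (g * t).left = g.left := by
      show g.left * ((g.right : MulAut L) 1) = g.left
      rw [map_one, mul_one]
    have h2 : (t * g).left = a g.left := by
      show 1 * a g.left = a g.left
      rw [one_mul]
    rw [hCdef, Subgroup.mem_centralizer_singleton_iff]
    constructor
    · intro hg
      have := congrArg SemidirectProduct.left hg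
      rw [h1, h2] at this
      first
        | exact this
        | exact this.symm
    · intro hg
      refine SemidirectProduct.ext ?_ ?_
      · rw [h1, h2]
        first
          | exact hg
          | exact hg.symm
      · show _ = _
        first
          | exact (hb g.right).eq
          | exact (hb g.right).eq.symm
  have hCcard : Nat.card C = p ^ 2 := by
    let f : C ≃ ↥(Subgroup.zpowers z₁) × ↥(Subgroup.zpowers a) :=
      { toFun := fun g => (⟨g.1.left, hfixL _ ((hmemC g.1).mp g.2)⟩, g.1.right)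
        invFun := fun q => ⟨⟨q.1.1, q.2⟩, (hmemC _).mpr (by
          obtain ⟨j, hj⟩ := q.1.2
          show a q.1.1 = q.1.1
          rw [← hj]
          show a (z₁ ^ j) = z₁ ^ j
          rw [map_zpow, hz₁fix])⟩
        left_inv := fun g => rfl
        right_inv := fun q => rfl }
    rw [Nat.card_congr f, Nat.card_prod, Nat.card_zpowers, Nat.card_zpowers, hz₁o, ha, sq]
  have hself : Subgroup.centralizer (C : Set G) = C := by
    refine le_antisymm (Subgroup.centralizer_le ?_) ?_
    · rw [Set.singleton_subset_iff, SetLike.mem_coe, hCdef, Subgroup.mem_centralizer_singleton_iff]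
    · haveI : IsMulCommutative C := IsPGroup.isMulCommutative_of_card_eq_prime_sq hCcard
      exact Subgroup.le_centralizer C
  exact S0112.result (m + 1) hGcard C hCcard hself

/-- If `p` is odd, the semidirect product has maximal class and `L` has no cyclic subgroup of index `p`,
then `a` moves an element of order `p`. -/
theorem backward (hp2 : p ≠ 2) (hL : IsPGroup p L) (hmc : IsMetacyclic L)
    (hnc : ∀ C : Subgroup L, IsCyclic C → C.index ≠ p) (ha : orderOf a = p) {m : ℕ} (hm : Nat.card L = p ^ m)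
    (hcls : Group.nilpotencyClass
      (SemidirectProduct L ↥(Subgroup.zpowers a) (Subgroup.zpowers a).subtype) = m) :
    ∃ x : L, orderOf x = p ∧ a x ≠ x := by
  by_contra hcon
  push Not at hcon
  haveI : Nontrivial L := by
    refine not_subsingleton_iff_nontrivial.mp fun hs => ?_
    haveI := hs
    have : a = 1 := MulEquiv.ext fun x => Subsingleton.elim _ _
    rw [this, orderOf_one] at ha
    exact hp.out.one_lt.ne ha
  obtain ⟨F⟩ := exists_frame hp2 hL hmc hnc
  haveI := F.hAn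
  haveI := F.hN
  haveI := F.hcyc
  have hfix : ∀ v ∈ F.A, a v = v := by
    intro v hv
    by_cases h1 : v = 1
    · rw [h1, map_one]
    exact hcon v (orderOf_eq_prime (F.hA.2 v hv) h1)
  set G := SemidirectProduct L ↥(Subgroup.zpowers a) (Subgroup.zpowers a).subtype
  have hGcard : Nat.card G = p ^ (m + 1) := card_semidirect a ha hm
  haveI : Finite G := Nat.finite_of_card_ne_zero (by rw [hGcard]; exact pow_ne_zero _ hp.out.pos.ne')
  have hm2 : 2 ≤ m := by
    have h1 := Subgroup.card_le_card_group F.A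
    rw [F.hAcard, hm] at h1
    exact (Nat.pow_le_pow_iff_right hp.out.one_lt).mp h1
  have hcls' : Group.nilpotencyClass G = (m + 1) - 1 := by rw [hcls]; rfl
  set i : L →* G := SemidirectProduct.inl
  haveI hAn' : (F.A.map i).Normal := normal_map_inl a F.A (fun v hv => by rw [hfix v hv]; exact hv)
  have hidx : ∀ W : Subgroup L, Nat.card W = p ^ 2 → (W.map i).index = p ^ (m - 1) := by
    intro W hW
    have h1 := (W.map i).card_mul_index
    rw [Subgroup.card_map_of_injective SemidirectProduct.inl_injective, hW, hGcard] at h1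
    exact Nat.eq_of_mul_eq_mul_left (pow_pos hp.out.pos 2) (h1.trans (by
      rw [← pow_add]; congr 1; omega))
  -- the commutator subgroup of `L` has order at most `p`
  have hL' : ∀ x y : L, (x * y * x⁻¹ * y⁻¹) ^ p = 1 := by
    by_contra hbad
    push Not at hbad
    obtain ⟨x, y, hxy⟩ := hbad
    have hle : commutator L ≤ F.N := by
      rw [commutator_def, Subgroup.commutator_le]
      intro x _ y _
      rw [commutatorElement_def]
      exact F.hcomm x y
    have hmem : x * y * x⁻¹ * y⁻¹ ∈ commutator L := by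
      rw [← commutatorElement_def, commutator_def]
      exact Subgroup.commutator_mem_commutator (Subgroup.mem_top x) (Subgroup.mem_top y)
    set c := x * y * x⁻¹ * y⁻¹
    obtain ⟨j, hj⟩ := hL c
    obtain ⟨t, -, ht⟩ := (Nat.dvd_prime_pow hp.out).mp (orderOf_dvd_of_pow_eq_one hj)
    have ht2 : 2 ≤ t := by
      by_contra hlt
      exact hxy (orderOf_dvd_iff_pow_eq_one.mp (by
        rw [ht]; exact (Nat.pow_dvd_pow p (by omega : t ≤ 1)).trans (by rw [pow_one])))
    set c₁ := c ^ p ^ (t - 2)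
    have hc₁m : c₁ ∈ commutator L := (commutator L).pow_mem hmem _
    have hc₁o : orderOf c₁ = p ^ 2 := by
      rw [orderOf_pow' _ (pow_ne_zero _ hp.out.pos.ne'), ht,
        Nat.gcd_eq_right (Nat.pow_dvd_pow p (by omega)), Nat.pow_div (by omega) hp.out.pos]
      congr 1
      omega
    set W := Subgroup.zpowers c₁ with hW
    have hWcard : Nat.card W = p ^ 2 := by rw [hW, Nat.card_zpowers, hc₁o]
    have hWinv : ∀ φ : L ≃* L, φ c₁ ∈ W := by
      intro φ
      have hφm : φ c₁ ∈ commutator L := by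
        have h1 : (commutator L).map φ.toMonoidHom ≤ commutator L := by
          rw [commutator_def, Subgroup.map_commutator]
          exact Subgroup.commutator_mono le_top le_top
        exact h1 ⟨c₁, hc₁m, rfl⟩
      have heq : Subgroup.zpowers (φ c₁) = W :=
        OddLocal.eq_of_card_eq_of_isCyclic (C := F.N) F.hcyc (Subgroup.zpowers_le.mpr (hle hφm))
          (Subgroup.zpowers_le.mpr (hle hc₁m)) (by
            rw [Nat.card_zpowers, hWcard, ← hc₁o]
            exact orderOf_injective φ.toMonoidHom φ.injective c₁)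
      exact heq ▸ Subgroup.mem_zpowers _
    haveI : W.Normal := ⟨by
      rintro _ ⟨q, rfl⟩ g
      rw [← conj_zpow]
      exact W.zpow_mem (hWinv (MulAut.conj g)) q⟩
    haveI : (W.map i).Normal := normal_map_inl a W (by
      rintro _ ⟨q, rfl⟩
      rw [map_zpow]
      exact W.zpow_mem (hWinv a) q)
    have e1 := Screen.normal_eq_lcs hGcard hcls' (by omega) (W.map i) (m - 1) ?_ (hidx W hWcard)
    have e2 := Screen.normal_eq_lcs hGcard hcls' (by omega) (F.A.map i) (m - 1) ?_ (hidx F.A F.hAcard)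
    · have e3 : W = F.A := Subgroup.map_injective SemidirectProduct.inl_injective (e1.trans e2.symm)
      have := F.hA.2 c₁ (e3 ▸ Subgroup.mem_zpowers c₁)
      have h4 := orderOf_dvd_of_pow_eq_one this
      rw [hc₁o] at h4
      exact absurd (Nat.le_of_dvd hp.out.pos h4) (not_le.mpr (lt_self_pow₀ hp.out.one_lt one_lt_two))
    all_goals
      have h1 := Subgroup.card_mul_index F.A
      rw [F.hAcard, hm] at h1
      by_contra hlt
      have hm' : m = 2 := by omega
      have hA : F.A = ⊤ := Subgroup.eq_top_of_card_eq _ (by rw [F.hAcard, hm, hm'])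
      have := F.hA.2 c₁ (hA ▸ Subgroup.mem_top c₁)
      have h4 := orderOf_dvd_of_pow_eq_one this
      rw [hc₁o] at h4
      exact absurd (Nat.le_of_dvd hp.out.pos h4) (not_le.mpr (lt_self_pow₀ hp.out.one_lt one_lt_two))
  -- so `A` is central
  have hAc : ∀ v ∈ F.A, v ∈ Subgroup.center L := by
    intro v hv
    obtain ⟨n, hn, j, rfl⟩ := F.decompA hp2 hL hv
    refine Subgroup.mul_mem _ hn (Subgroup.zpow_mem _ ?_ j)
    rw [Subgroup.mem_center_iff]
    intro g
    set c := g * F.w * g⁻¹ * F.w⁻¹ with hc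
    have hcc : Commute c F.w :=
      (Subgroup.mem_center_iff.mp (mem_center_of_cyclic F.N hL (F.hcomm g F.w) (hL' g F.w)) F.w).symm
    have : g * F.u * g⁻¹ = F.u := by
      rw [← F.hw, ← conj_pow, show g * F.w * g⁻¹ = c * F.w by rw [hc, inv_mul_cancel_right], hcc.mul_pow,
        hL', one_mul]
    exact mul_inv_eq_iff_eq_mul.mp this
  have hle : F.A.map i ≤ Subgroup.center G := by
    rintro _ ⟨v, hv, rfl⟩
    rw [Subgroup.mem_center_iff]
    intro g
    refine SemidirectProduct.ext ?_ ?_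
    · show g.left * ((g.right : MulAut L) v) = v * ((1 : MulAut L) g.left)
      obtain ⟨q, hq⟩ := g.right.2
      have hq' : a ^ q = (g.right : MulAut L) := hq
      have hfq : ∀ q : ℤ, (a ^ q) v = v := by
        intro q
        have : a ∈ MulAction.stabilizer (MulAut L) v := hfix v hv
        exact Subgroup.zpow_mem _ this q
      rw [← hq', hfq, MulAut.one_apply, Subgroup.mem_center_iff.mp (hAc v hv)]
    · show g.right * 1 = 1 * g.right
      rw [mul_one, one_mul]
  have h3 := Subgroup.card_le_of_le hle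
  rw [Subgroup.card_map_of_injective SemidirectProduct.inl_injective, F.hAcard] at h3
  have hcen : Nat.card (Subgroup.center G) = p := by
    have := Fusion.MaxCl.center_eq hGcard (by omega) hcls'
    rw [this]
    have h := Fusion.MaxCl.lcs_card hGcard (by omega) hcls' (i := m + 1 - 2) (by omega) (by omega)
    rw [h]
    conv_rhs => rw [← pow_one p]
    congr 1
    omega
  rw [hcen] at h3
  exact absurd h3 (not_le.mpr (lt_self_pow₀ hp.out.one_lt one_lt_two))

end Cfsg.Agent.Transfer.MetaOmega
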